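-- helper84: S2283, the generation criterion in the hyperbolic model of SU_3, assembled from the pieces
-- (GEN) helper35, (CRITA) helper91, (CRITB) helper89.
import Mathlib
import Cfsg.Prelude.Def_Classical
import Cfsg.Agent.Helper84.RU3.Defs
import Cfsg.Agent.Helper35.RU3GEN
import Cfsg.Agent.Helper91.RU3CRITA
import Cfsg.Agent.Helper89.RU3CRITB

set_option autoImplicit false

namespace Cfsg.Agent.Helper84.RU3

open Matrix

variable {K : Type*} [Field K] (bar : K →+* K) (hb : ∀ x, bar (bar x) = x)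

/-- (CRIT) the generation criterion: a subgroup containing a nontrivial upper unipotent element, a lower
unipotent element `lE c₀ d₀` and a lower triangular element whose multiplier generates `K` additively from `c₀`
is the whole group -/
theorem eq_top_of_mult
    (hnm : ∀ y : K, bar y = y → ∃ t, t * bar t = y) (htr : ∀ y : K, bar y = y → ∃ t, t + bar t = y)
    (G : Subgroup (SUJ bar))
    {a₀ b₀ : K} (h₀ : b₀ + bar b₀ + a₀ * bar a₀ = 0) (hb₀ : b₀ ≠ 0) (hu : uE bar hb a₀ b₀ h₀ ∈ G)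
    {c₀ d₀ : K} (h₁ : d₀ + bar d₀ + c₀ * bar c₀ = 0) (hv : lE bar hb c₀ d₀ h₁ ∈ G)
    (m : SUJ bar) (hm : m ∈ G) (hm01 : mt bar m 0 1 = 0) (hm02 : mt bar m 0 2 = 0) (hm12 : mt bar m 1 2 = 0)
    (hA : ∀ A : AddSubgroup K, (∀ x ∈ A, mt bar m 1 1 / mt bar m 0 0 * x ∈ A) → c₀ ∈ A → A = ⊤) :
    G = ⊤ := by
  have hL := Cfsg.Agent.Helper91.RU3.lE_mem_of_mult bar hb htr G h₁ hv m hm hm01 hm02 hm12 hA
  have hU := Cfsg.Agent.Helper89.RU3.uE_mem_of_lE_mem bar hb G h₀ hb₀ hu hL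
  rw [eq_top_iff, ← Cfsg.Agent.Helper35.RU3.closure_unip_eq_top bar hb hnm, Subgroup.closure_le]
  rintro g (⟨a, b, h, rfl⟩ | ⟨c, d, h, rfl⟩)
  · exact hU a b h
  · exact hL c d h

end Cfsg.Agent.Helper84.RU3
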