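-- helper84: S2283, the common tail of all cases: from explicit data to generation
-- (uses (CONJ) helper89, (REG) helper91, (FG) helper81 and the criterion).
import Mathlib
import Cfsg.Prelude.Def_Classical
import Cfsg.Agent.Helper84.RU3.Crit
import Cfsg.Agent.Helper89.RU3CONJ
import Cfsg.Agent.Helper91.RU3PAT
import Cfsg.Agent.Helper81.RU3FGSF

set_option autoImplicit false

namespace Cfsg.Agent.Helper84.RU3

open Matrix

/-- a product of two explicit `3 × 3` matrices, entry by entry -/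
theorem mul3_eq {α : Type*} [CommRing α]
    {a11 a12 a13 a21 a22 a23 a31 a32 a33 b11 b12 b13 b21 b22 b23 b31 b32 b33
      c11 c12 c13 c21 c22 c23 c31 c32 c33 : α}
    (h11 : a11 * b11 + a12 * b21 + a13 * b31 = c11) (h12 : a11 * b12 + a12 * b22 + a13 * b32 = c12)
    (h13 : a11 * b13 + a12 * b23 + a13 * b33 = c13) (h21 : a21 * b11 + a22 * b21 + a23 * b31 = c21)
    (h22 : a21 * b12 + a22 * b22 + a23 * b32 = c22) (h23 : a21 * b13 + a22 * b23 + a23 * b33 = c23)
    (h31 : a31 * b11 + a32 * b21 + a33 * b31 = c31) (h32 : a31 * b12 + a32 * b22 + a33 * b32 = c32)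
    (h33 : a31 * b13 + a32 * b23 + a33 * b33 = c33) :
    !![a11, a12, a13; a21, a22, a23; a31, a32, a33] * !![b11, b12, b13; b21, b22, b23; b31, b32, b33] =
      !![c11, c12, c13; c21, c22, c23; c31, c32, c33] := by
  rw [Matrix.mul_fin_three, h11, h12, h13, h21, h22, h23, h31, h32, h33]

variable {K : Type*} [Field K] [Finite K]

/-- from explicit data to the generation statement -/
theorem explicit_case (bar : K →+* K) (hb : ∀ x, bar (bar x) = x)
    (hnm : ∀ y : K, bar y = y → ∃ t, t * bar t = y) (htr : ∀ y : K, bar y = y → ∃ t, t + bar t = y)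
    {a b c d l : K} (ha : a ≠ 0) (h : b + bar b + a * bar a = 0) (h' : d + bar d + c * bar c = 0)
    (hl : l ≠ 0) (hcl : c = -(a * bar l / l ^ 2))
    (m : SUJ bar)
    (hmG : m ∈ Subgroup.closure ({uE bar hb a b h, lE bar hb c d h'} : Set (SUJ bar)))
    (hm01 : mt bar m 0 1 = 0) (hm02 : mt bar m 0 2 = 0) (hm12 : mt bar m 1 2 = 0)
    (hρ : ∀ L : Subfield K, mt bar m 1 1 / mt bar m 0 0 ∈ L → L = ⊤) :
    ∃ u g : SUJ bar, ((mt bar u - 1) ^ 3 = 0 ∧ (mt bar u - 1) ^ 2 ≠ 0) ∧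
      Subgroup.closure ({u, g * u * g⁻¹} : Set (SUJ bar)) = ⊤ := by
  have hbl : bar l ≠ 0 := (map_ne_zero bar).mpr hl
  have hc0 : c ≠ 0 := by
    rw [hcl]
    exact neg_ne_zero.mpr (div_ne_zero (mul_ne_zero ha hbl) (pow_ne_zero _ hl))
  have hb0 : b ≠ 0 := by
    intro h0
    rw [h0, map_zero, zero_add, zero_add] at h
    exact mul_ne_zero ha ((map_ne_zero bar).mpr ha) h
  obtain ⟨g, hg⟩ := Cfsg.Agent.Helper89.RU3.exists_conj bar hb htr ha h hl hcl h'
  refine ⟨uE bar hb a b h, g, Cfsg.Agent.Helper91.RU3.regular_uE bar hb ha h, ?_⟩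
  rw [hg]
  have hu : uE bar hb a b h ∈ Subgroup.closure ({uE bar hb a b h, lE bar hb c d h'} : Set (SUJ bar)) :=
    Subgroup.subset_closure (Set.mem_insert _ _)
  have hv : lE bar hb c d h' ∈ Subgroup.closure ({uE bar hb a b h, lE bar hb c d h'} : Set (SUJ bar)) :=
    Subgroup.subset_closure (Set.mem_insert_of_mem _ rfl)
  refine eq_top_of_mult bar hb hnm htr _ h hb0 hu h' hv m hmG hm01 hm02 hm12 ?_
  intro A hA hcA
  exact Cfsg.Agent.Helper81.RU3.addSubgroup_eq_top _ hρ A hA hc0 hcA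

end Cfsg.Agent.Helper84.RU3
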