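-- helper84: S2283, the case q = 5 (machine-generated certificates; generator tools/helper84_ru3/gen).
import Mathlib
import Cfsg.Prelude.Def_Classical
import Cfsg.Agent.Helper84.RU3.Expl
import Cfsg.Agent.Helper81.RU3NTZ

set_option autoImplicit false
set_option maxHeartbeats 1000000

namespace Cfsg.Agent.Helper84.RU3

open Matrix

variable {K : Type*} [Field K] [Fintype K]

/-- (C5) the case `q = 5` -/
theorem case_five (hK : Fintype.card K = 5 ^ 2) (bar : K →+* K) (hq : ∀ x, bar x = x ^ 5)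
    (hb : ∀ x, bar (bar x) = x)
    (hnm : ∀ y : K, bar y = y → ∃ t, t * bar t = y) (htr : ∀ y : K, bar y = y → ∃ t, t + bar t = y) :
    ∃ u g : SUJ bar, ((mt bar u - 1) ^ 3 = 0 ∧ (mt bar u - 1) ^ 2 ≠ 0) ∧
      Subgroup.closure ({u, g * u * g⁻¹} : Set (SUJ bar)) = ⊤ := by
  obtain ⟨z, hzo, hzn⟩ := Cfsg.Agent.Helper81.RU3.exists_norm_one (K := K) (q := 5) (by norm_num) hK
  have h5 : (5 : K) = 0 := by
    have h := Nat.cast_card_eq_zero K
    rw [hK] at h
    push_cast at h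
    have h' : (5 : K) * 5 = 0 := by linear_combination h
    exact mul_self_eq_zero.mp h'
  obtain ⟨w, hwdef⟩ : ∃ w : K, w = z ^ 2 := ⟨_, rfl⟩
  have hz6 : z ^ 6 = 1 := by
    have := pow_orderOf_eq_one z
    rwa [hzo] at this
  have hw3 : w ^ 3 = 1 := by rw [hwdef, ← pow_mul]; exact hz6
  have hw1 : w ≠ 1 := by
    intro h1
    rw [hwdef] at h1
    have h2 := orderOf_dvd_of_pow_eq_one h1
    rw [hzo] at h2
    have := Nat.le_of_dvd (by norm_num) h2
    omega
  have hw : w ^ 2 + w + 1 = 0 := by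
    have h1 : (w - 1) * (w ^ 2 + w + 1) = 0 := by linear_combination hw3
    rcases mul_eq_zero.mp h1 with h2 | h2
    · exact absurd (sub_eq_zero.mp h2) hw1
    · exact h2
  have hbb : bar (w) = ((4 : K) + 4 * w) := by
    rw [hq]
    linear_combination ((1 : K) + (-1 : K) * w ^ 2 + w ^ 3) * hw + ((-1 : K) + (-1 : K) * w) * h5
  have hbc : bar ((3 : K) + w) = ((2 : K) + 4 * w) := by
    rw [hq]
    linear_combination ((181 : K) + 75 * w + 14 * w ^ 2 + w ^ 3) * hw + ((12 : K) + 29 * w) * h5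
  have hbd : bar ((1 : K) + 4 * w) = ((2 : K) + w) := by
    rw [hq]
    linear_combination ((544 : K) + (-640 : K) * w + 256 * w ^ 2 + 1024 * w ^ 3) * hw + ((-109 : K) + 23 * w) * h5
  have hbl : bar ((1 : K) + 2 * w) = ((4 : K) + 3 * w) := by
    rw [hq]
    linear_combination ((-8 : K) + 48 * w ^ 2 + 32 * w ^ 3) * hw + ((1 : K) + 3 * w) * h5
  have h : (w) + bar (w) + 1 * bar 1 = 0 := by
    rw [hbb, map_one]
    linear_combination ((1 : K) + w) * h5
  have h' : ((1 : K) + 4 * w) + bar ((1 : K) + 4 * w) + ((3 : K) + w) * bar ((3 : K) + w) = 0 := by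
    rw [hbd, hbc]
    linear_combination ((4 : K)) * hw + ((1 : K) + 3 * w) * h5
  have hl : ((1 : K) + 2 * w) ≠ 0 := by
    intro h0
    have h1 : ((1 : K) + 2 * w) * ((3 : K) + w) = 1 := by
      linear_combination ((2 : K)) * hw + (w) * h5
    rw [h0, zero_mul] at h1
    exact zero_ne_one h1
  have hcl : ((3 : K) + w) = -(1 * bar ((1 : K) + 2 * w) / ((1 : K) + 2 * w) ^ 2) := by
    rw [hbl, one_mul, ← neg_div, eq_div_iff (pow_ne_zero 2 hl)]
    linear_combination ((12 : K) + 4 * w) * hw + ((-1 : K)) * h5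
  have hU : uM bar 1 (w) = !![1, -1, (w); 0, 1, 1; 0, 0, 1] := by
    unfold uM
    rw [map_one]
  have hV : lM bar ((3 : K) + w) ((1 : K) + 4 * w) = !![1, 0, 0; ((3 : K) + w), 1, 0; ((1 : K) + 4 * w), -((2 : K) + 4 * w), 1] := by
    unfold lM
    rw [hbc]
  have hP1 : (!![1, -1, (w); 0, 1, 1; 0, 0, 1] : Matrix (Fin 3) (Fin 3) K) * !![1, 0, 0; ((3 : K) + w), 1, 0; ((1 : K) + 4 * w), -((2 : K) + 4 * w), 1] = !![((4 : K) + w), ((3 : K) + 2 * w), (w); ((4 : K)), ((4 : K) + w), ((1 : K)); ((1 : K) + 4 * w), ((3 : K) + w), ((1 : K))] := by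
    apply mul3_eq
    · linear_combination ((4 : K)) * hw + ((-2 : K) + (-1 : K) * w) * h5
    · linear_combination ((-4 : K)) * hw
    · ring
    · linear_combination (w) * h5
    · linear_combination ((-1 : K) + (-1 : K) * w) * h5
    · ring
    · ring
    · linear_combination ((-1 : K) + (-1 : K) * w) * h5
    · ring
  have hP2 : (!![((4 : K) + w), ((3 : K) + 2 * w), (w); ((4 : K)), ((4 : K) + w), ((1 : K)); ((1 : K) + 4 * w), ((3 : K) + w), ((1 : K))] : Matrix (Fin 3) (Fin 3) K) * !![1, -1, (w); 0, 1, 1; 0, 0, 1] = !![((4 : K) + w), ((4 : K) + w), ((2 : K) + w); ((4 : K)), (w), (0 : K); ((1 : K) + 4 * w), ((2 : K) + 2 * w), (3 * w)] := by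
    apply mul3_eq
    · ring
    · linear_combination ((-1 : K)) * h5
    · linear_combination ((1 : K)) * hw + (w) * h5
    · ring
    · ring
    · linear_combination ((1 : K) + w) * h5
    · ring
    · linear_combination ((-1 : K) * w) * h5
    · linear_combination ((4 : K)) * hw + ((-1 : K) * w) * h5
  have hP3 : (!![((4 : K) + w), ((4 : K) + w), ((2 : K) + w); ((4 : K)), (w), (0 : K); ((1 : K) + 4 * w), ((2 : K) + 2 * w), (3 * w)] : Matrix (Fin 3) (Fin 3) K) * !![1, -1, (w); 0, 1, 1; 0, 0, 1] = !![((4 : K) + w), (0 : K), (0 : K); ((4 : K)), ((1 : K) + w), (0 : K); ((1 : K) + 4 * w), ((1 : K) + 3 * w), ((3 : K) + 2 * w)] := by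
    apply mul3_eq
    · ring
    · ring
    · linear_combination ((1 : K)) * hw + ((1 : K) + w) * h5
    · ring
    · linear_combination ((-1 : K)) * h5
    · linear_combination (w) * h5
    · ring
    · linear_combination ((-1 : K) * w) * h5
    · linear_combination ((4 : K)) * hw + ((-1 : K)) * h5
  have hmt : mt bar (uE bar hb 1 (w) h * lE bar hb ((3 : K) + w) ((1 : K) + 4 * w) h' * uE bar hb 1 (w) h * uE bar hb 1 (w) h) = !![((4 : K) + w), (0 : K), (0 : K); ((4 : K)), ((1 : K) + w), (0 : K); ((1 : K) + 4 * w), ((1 : K) + 3 * w), ((3 : K) + 2 * w)] := by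
    simp only [mt_mul, mt_uE, mt_lE]
    rw [hU, hV, hP1, hP2, hP3]
  have hw00 : ((4 : K) + w) ≠ 0 := by
    intro h0
    have h1 : ((4 : K) + w) * ((1 : K) + 3 * w) = 1 := by
      linear_combination ((3 : K)) * hw + (2 * w) * h5
    rw [h0, zero_mul] at h1
    exact zero_ne_one h1
  have hr : mt bar (uE bar hb 1 (w) h * lE bar hb ((3 : K) + w) ((1 : K) + 4 * w) h' * uE bar hb 1 (w) h * uE bar hb 1 (w) h) 1 1 / mt bar (uE bar hb 1 (w) h * lE bar hb ((3 : K) + w) ((1 : K) + 4 * w) h' * uE bar hb 1 (w) h * uE bar hb 1 (w) h) 0 0 = ((3 : K) + w) := by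
    rw [hmt]
    show ((1 : K) + w) / ((4 : K) + w) = ((3 : K) + w)
    rw [div_eq_iff hw00]
    linear_combination ((-1 : K)) * hw + ((-2 : K) + (-1 : K) * w) * h5
  have hr0 : ((3 : K) + w) ≠ 0 := by
    intro h0
    have h1 : ((3 : K) + w) * ((1 : K) + 2 * w) = 1 := by
      linear_combination ((2 : K)) * hw + (w) * h5
    rw [h0, zero_mul] at h1
    exact zero_ne_one h1
  have hu : uE bar hb 1 (w) h ∈ Subgroup.closure ({uE bar hb 1 (w) h, lE bar hb ((3 : K) + w) ((1 : K) + 4 * w) h'} : Set (SUJ bar)) :=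
    Subgroup.subset_closure (Set.mem_insert _ _)
  have hv : lE bar hb ((3 : K) + w) ((1 : K) + 4 * w) h' ∈ Subgroup.closure ({uE bar hb 1 (w) h, lE bar hb ((3 : K) + w) ((1 : K) + 4 * w) h'} : Set (SUJ bar)) :=
    Subgroup.subset_closure (Set.mem_insert_of_mem _ rfl)
  refine explicit_case bar hb hnm htr one_ne_zero h h' hl hcl (uE bar hb 1 (w) h * lE bar hb ((3 : K) + w) ((1 : K) + 4 * w) h' * uE bar hb 1 (w) h * uE bar hb 1 (w) h) (mul_mem (mul_mem (mul_mem hu hv) hu) hu) ?_ ?_ ?_ ?_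
  · rw [hmt]
    rfl
  · rw [hmt]
    rfl
  · rw [hmt]
    rfl
  intro L hL
  rw [hr] at hL
  refine Cfsg.Agent.Helper81.RU3.subfield_eq_top_of_pow_ne ((3 : K) + w) hr0 ?_ L hL
  intro s k hsk hk hpow
  have hs25 : s ^ k = 25 := by rw [← hsk, hK]; norm_num
  have hs1 : 2 ≤ s := by
    rcases Nat.lt_or_ge s 2 with h1 | h1
    · interval_cases s
      · rw [zero_pow (by omega)] at hs25; omega
      · rw [one_pow] at hs25; omega
    · exact h1
  have hk4 : k ≤ 4 := by
    by_contra hcon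
    push Not at hcon
    have : 2 ^ 5 ≤ s ^ k := calc 2 ^ 5 ≤ 2 ^ k := Nat.pow_le_pow_right (by norm_num) hcon
      _ ≤ s ^ k := Nat.pow_le_pow_left hs1 k
    omega
  have hs5 : s ≤ 5 := by
    by_contra hcon
    push Not at hcon
    have : 6 ^ 2 ≤ s ^ k := calc 6 ^ 2 ≤ 6 ^ k := Nat.pow_le_pow_right (by norm_num) hk
      _ ≤ s ^ k := Nat.pow_le_pow_left hcon k
    omega
  have hs : s = 5 := by
    interval_cases k <;> interval_cases s <;> omega
  subst hs
  have h4 : ((3 : K) + w) ^ 4 = -1 := by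
    linear_combination ((42 : K) + 11 * w + w ^ 2) * hw + ((8 : K) + 11 * w) * h5
  rw [show 5 - 1 = 4 from rfl, h4] at hpow
  have h2 : (2 : K) = 0 := by linear_combination -hpow
  have h1 : (1 : K) = 0 := by linear_combination h5 - 2 * h2
  exact one_ne_zero h1

end Cfsg.Agent.Helper84.RU3
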