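-- helper84: S2283, the case q = 8 (machine-generated certificates; generator tools/helper84_ru3/gen).
import Mathlib
import Cfsg.Prelude.Def_Classical
import Cfsg.Agent.Helper84.RU3.Expl
import Cfsg.Agent.Helper81.RU3NTZ

set_option autoImplicit false
set_option maxHeartbeats 1000000

namespace Cfsg.Agent.Helper84.RU3

open Matrix

variable {K : Type*} [Field K] [Fintype K]

/-- (C8) the case `q = 8` -/
theorem case_eight (hK : Fintype.card K = 8 ^ 2) (bar : K →+* K) (hq : ∀ x, bar x = x ^ 8)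
    (hb : ∀ x, bar (bar x) = x)
    (hnm : ∀ y : K, bar y = y → ∃ t, t * bar t = y) (htr : ∀ y : K, bar y = y → ∃ t, t + bar t = y) :
    ∃ u g : SUJ bar, ((mt bar u - 1) ^ 3 = 0 ∧ (mt bar u - 1) ^ 2 ≠ 0) ∧
      Subgroup.closure ({u, g * u * g⁻¹} : Set (SUJ bar)) = ⊤ := by
  obtain ⟨z, hzo, hzn⟩ := Cfsg.Agent.Helper81.RU3.exists_norm_one (K := K) (q := 8) (by norm_num) hK
  have h2 : (2 : K) = 0 := by
    have h := Nat.cast_card_eq_zero K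
    rw [hK] at h
    push_cast at h
    have h' : (2 : K) ^ 6 = 0 := by linear_combination h
    exact pow_eq_zero_iff (by norm_num) |>.mp h'
  have hz9 : z ^ 9 = 1 := by
    have := pow_orderOf_eq_one z
    rwa [hzo] at this
  have hz3 : z ^ 3 ≠ 1 := by
    intro h1
    have h3 := orderOf_dvd_of_pow_eq_one h1
    rw [hzo] at h3
    have := Nat.le_of_dvd (by norm_num) h3
    omega
  have hΦ : z ^ 6 + z ^ 3 + 1 = 0 := by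
    have h1 : (z ^ 3 - 1) * (z ^ 6 + z ^ 3 + 1) = 0 := by linear_combination hz9
    rcases mul_eq_zero.mp h1 with h3 | h3
    · exact absurd (sub_eq_zero.mp h3) hz3
    · exact h3
  have hbb : bar (z ^ 3 + z ^ 4 + z ^ 5) = ((1 : K) + z ^ 3 + z ^ 4 + z ^ 5) := by
    rw [hq]
    linear_combination ((639 : K) + 414 * z + (-414 : K) * z ^ 3 + (-639 : K) * z ^ 4 + (-567 : K) * z ^ 5 + (-225 : K) * z ^ 6 + 225 * z ^ 7 + 567 * z ^ 8 + 639 * z ^ 9 + 414 * z ^ 10 + (-414 : K) * z ^ 12 + (-639 : K) * z ^ 13 + (-567 : K) * z ^ 14 + (-225 : K) * z ^ 15 + 225 * z ^ 16 + 567 * z ^ 17 + 639 * z ^ 18 + 414 * z ^ 19 + (-414 : K) * z ^ 21 + (-639 : K) * z ^ 22 + (-567 : K) * z ^ 23 + (-224 : K) * z ^ 24 + 233 * z ^ 25 + 603 * z ^ 26 + 750 * z ^ 27 + 672 * z ^ 28 + 468 * z ^ 29 + 258 * z ^ 30 + 111 * z ^ 31 + 36 * z ^ 32 + 8 * z ^ 33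 + z ^ 34) * hΦ + ((-320 : K) + (-207 : K) * z + (-113 : K) * z ^ 3 + 112 * z ^ 4 + 283 * z ^ 5) * h2
  have hbc : bar (z + z ^ 5) = (z ^ 2 + z ^ 4 + z ^ 5) := by
    rw [hq]
    linear_combination ((62 : K) + (-28 : K) * z + (-55 : K) * z ^ 2 + 55 * z ^ 4 + 28 * z ^ 5 + (-62 : K) * z ^ 6 + (-27 : K) * z ^ 7 + 28 * z ^ 8 + 62 * z ^ 9 + (-28 : K) * z ^ 10 + (-56 : K) * z ^ 11 + 8 * z ^ 12 + 55 * z ^ 13 + 28 * z ^ 14 + (-70 : K) * z ^ 15 + z ^ 16 + 28 * z ^ 17 + 62 * z ^ 18 + (-56 : K) * z ^ 19 + 8 * z ^ 21 + 55 * z ^ 22 + (-28 : K) * z ^ 23 + z ^ 25 + 28 * z ^ 26 + (-8 : K) * z ^ 27 + 8 * z ^ 30 + (-1 : K) * z ^ 31 + z ^ 34) * hΦ + ((-31 : K) + 14 * z + 27 * z ^ 2 + (-31 : K) * z ^ 3 + (-14 : K) * z ^ 4 + 13 * z ^ 5) * h2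
  have hbd : bar ((1 : K) + z + z ^ 2) = ((1 : K) + z + z ^ 2 + z ^ 4 + z ^ 5) := by
    rw [hq]
    linear_combination ((-224 : K) + 233 * z + 603 * z ^ 2 + 750 * z ^ 3 + 672 * z ^ 4 + 468 * z ^ 5 + 258 * z ^ 6 + 111 * z ^ 7 + 36 * z ^ 8 + 8 * z ^ 9 + z ^ 10) * hΦ + ((112 : K) + (-113 : K) * z + (-284 : K) * z ^ 2 + (-207 : K) * z ^ 3 + (-320 : K) * z ^ 4 + (-284 : K) * z ^ 5) * h2
  have hbl : bar ((1 : K) + z + z ^ 5) = ((1 : K) + z ^ 2 + z ^ 4 + z ^ 5) := by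
    rw [hq]
    linear_combination ((-638 : K) + 8 * z + 667 * z ^ 2 + 280 * z ^ 3 + (-505 : K) * z ^ 4 + (-378 : K) * z ^ 5 + 442 * z ^ 6 + 673 * z ^ 7 + (-8 : K) * z ^ 8 + (-442 : K) * z ^ 9 + 28 * z ^ 10 + 610 * z ^ 11 + 428 * z ^ 12 + (-141 : K) * z ^ 13 + (-182 : K) * z ^ 14 + 238 * z ^ 15 + 421 * z ^ 16 + 132 * z ^ 17 + (-106 : K) * z ^ 18 + 176 * z ^ 20 + 148 * z ^ 21 + (-1 : K) * z ^ 22 + (-28 : K) * z ^ 23 + 28 * z ^ 24 + 57 * z ^ 25 + 20 * z ^ 26 + (-8 : K) * z ^ 27 + 8 * z ^ 29 + 8 * z ^ 30 + (-1 : K) * z ^ 31 + z ^ 34) * hΦ + ((319 : K) + (-320 : K) * z ^ 2 + 207 * z ^ 3 + 283 * z ^ 4 + (-113 : K) * z ^ 5) * h2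
  have h : (z ^ 3 + z ^ 4 + z ^ 5) + bar (z ^ 3 + z ^ 4 + z ^ 5) + 1 * bar 1 = 0 := by
    rw [hbb, map_one]
    linear_combination ((1 : K) + z ^ 3 + z ^ 4 + z ^ 5) * h2
  have h' : ((1 : K) + z + z ^ 2) + bar ((1 : K) + z + z ^ 2) + (z + z ^ 5) * bar (z + z ^ 5) = 0 := by
    rw [hbd, hbc]
    linear_combination (z ^ 3 + z ^ 4) * hΦ + ((1 : K) + z + z ^ 2 + z ^ 5) * h2
  have hl : ((1 : K) + z + z ^ 5) ≠ 0 := by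
    intro h0
    have h1 : ((1 : K) + z + z ^ 5) * ((1 : K) + z ^ 2 + z ^ 3) = 1 := by
      linear_combination (z + z ^ 2) * hΦ + (z ^ 3) * h2
    rw [h0, zero_mul] at h1
    exact zero_ne_one h1
  have hcl : (z + z ^ 5) = -(1 * bar ((1 : K) + z + z ^ 5) / ((1 : K) + z + z ^ 5) ^ 2) := by
    rw [hbl, one_mul, ← neg_div, eq_div_iff (pow_ne_zero 2 hl)]
    linear_combination ((5 : K) + z + (-3 : K) * z ^ 2 + 2 * z ^ 4 + 3 * z ^ 5 + (-1 : K) * z ^ 6 + z ^ 9) * hΦ + ((-2 : K) + 3 * z ^ 2 + (-2 : K) * z ^ 3 + (-1 : K) * z ^ 4 + z ^ 5) * h2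
  have hU : uM bar 1 (z ^ 3 + z ^ 4 + z ^ 5) = !![1, -1, (z ^ 3 + z ^ 4 + z ^ 5); 0, 1, 1; 0, 0, 1] := by
    unfold uM
    rw [map_one]
  have hV : lM bar (z + z ^ 5) ((1 : K) + z + z ^ 2) = !![1, 0, 0; (z + z ^ 5), 1, 0; ((1 : K) + z + z ^ 2), -(z ^ 2 + z ^ 4 + z ^ 5), 1] := by
    unfold lM
    rw [hbc]
  have hP1 : (!![1, -1, (z ^ 3 + z ^ 4 + z ^ 5); 0, 1, 1; 0, 0, 1] : Matrix (Fin 3) (Fin 3) K) * !![1, 0, 0; (z + z ^ 5), 1, 0; ((1 : K) + z + z ^ 2), -(z ^ 2 + z ^ 4 + z ^ 5), 1] = !![((1 : K) + z ^ 3 + z ^ 4), (z + z ^ 3 + z ^ 5), (z ^ 3 + z ^ 4 + z ^ 5); ((1 : K) + z ^ 2 + z ^ 5), ((1 : K) + z ^ 2 + z ^ 4 + z ^ 5), ((1 : K)); ((1 : K) + z + z ^ 2), (z ^ 2 + z ^ 4 + z ^ 5), ((1 : K))] := by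
    apply mul3_eq
    · linear_combination ((2 : K) + z) * hΦ + ((-1 : K) + (-1 : K) * z + (-1 : K) * z ^ 3 + z ^ 5) * h2
    · linear_combination ((1 : K) + (-1 : K) * z + (-2 : K) * z ^ 2 + (-2 : K) * z ^ 3 + (-1 : K) * z ^ 4) * hΦ + ((-1 : K) + z ^ 2 + z ^ 4) * h2
    · ring
    · linear_combination (z) * h2
    · linear_combination ((-1 : K) * z ^ 2 + (-1 : K) * z ^ 4 + (-1 : K) * z ^ 5) * h2
    · ring
    · ring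
    · linear_combination ((-1 : K) * z ^ 2 + (-1 : K) * z ^ 4 + (-1 : K) * z ^ 5) * h2
    · ring
  have hP2 : (!![((1 : K) + z ^ 3 + z ^ 4), (z + z ^ 3 + z ^ 5), (z ^ 3 + z ^ 4 + z ^ 5); ((1 : K) + z ^ 2 + z ^ 5), ((1 : K) + z ^ 2 + z ^ 4 + z ^ 5), ((1 : K)); ((1 : K) + z + z ^ 2), (z ^ 2 + z ^ 4 + z ^ 5), ((1 : K))] : Matrix (Fin 3) (Fin 3) K) * !![1, -1, (z ^ 3 + z ^ 4 + z ^ 5); 0, 1, 1; 0, 0, 1] = !![((1 : K) + z ^ 3 + z ^ 4), ((1 : K) + z + z ^ 4 + z ^ 5), (z + z ^ 5); ((1 : K) + z ^ 2 + z ^ 5), (z ^ 4), (z ^ 4); ((1 : K) + z + z ^ 2), ((1 : K) + z + z ^ 4 + z ^ 5), ((1 : K) + z + z ^ 2 + z ^ 3)] := by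
    apply mul3_eq
    · ring
    · linear_combination ((-1 : K) + (-1 : K) * z ^ 4) * h2
    · linear_combination (2 * z + 2 * z ^ 2 + z ^ 3) * hΦ + ((-1 : K) * z + (-1 : K) * z ^ 2 + z ^ 3) * h2
    · ring
    · ring
    · linear_combination (z ^ 2 + z ^ 3 + z ^ 4) * hΦ + ((1 : K) + z ^ 5) * h2
    · ring
    · linear_combination ((-1 : K) + (-1 : K) * z) * h2
    · linear_combination ((2 : K) + z) * hΦ + ((-1 : K) + (-1 : K) * z + (-1 : K) * z ^ 3 + z ^ 4 + 2 * z ^ 5) * h2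
  have hP3 : (!![((1 : K) + z ^ 3 + z ^ 4), ((1 : K) + z + z ^ 4 + z ^ 5), (z + z ^ 5); ((1 : K) + z ^ 2 + z ^ 5), (z ^ 4), (z ^ 4); ((1 : K) + z + z ^ 2), ((1 : K) + z + z ^ 4 + z ^ 5), ((1 : K) + z + z ^ 2 + z ^ 3)] : Matrix (Fin 3) (Fin 3) K) * !![1, 0, 0; (z + z ^ 5), 1, 0; ((1 : K) + z + z ^ 2), -(z ^ 2 + z ^ 4 + z ^ 5), 1] = !![((1 : K) + z ^ 3 + z ^ 5), ((1 : K) + z), (z + z ^ 5); ((1 : K) + z ^ 2 + z ^ 3 + z ^ 4 + z ^ 5), (z ^ 2 + z ^ 3 + z ^ 4 + z ^ 5), (z ^ 4); ((1 : K) + z + z ^ 2 + z ^ 3 + z ^ 5), ((1 : K) + z + z ^ 3 + z ^ 4 + z ^ 5), ((1 : K) + z + z ^ 2 + z ^ 3)] := by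
    apply mul3_eq
    · linear_combination ((2 : K) + z ^ 3 + z ^ 4) * hΦ + ((-1 : K) + z + z ^ 2 + (-1 : K) * z ^ 3 + z ^ 5) * h2
    · linear_combination ((-1 : K) * z ^ 3 + (-1 : K) * z ^ 4) * hΦ + (z ^ 4) * h2
    · ring
    · linear_combination (z ^ 3) * hΦ + ((-1 : K) * z ^ 3 + z ^ 5) * h2
    · linear_combination ((-1 : K) * z ^ 2 + (-1 : K) * z ^ 3) * hΦ
    · ring
    · linear_combination ((1 : K) + (-1 : K) * z + z ^ 3 + z ^ 4) * hΦ + (2 * z + 2 * z ^ 2 + z ^ 4 + z ^ 5) * h2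
    · linear_combination ((-2 : K) + (-2 : K) * z + (-1 : K) * z ^ 2) * hΦ + ((1 : K) + z + (-1 : K) * z ^ 5) * h2
    · ring
  have hP4 : (!![((1 : K) + z ^ 3 + z ^ 5), ((1 : K) + z), (z + z ^ 5); ((1 : K) + z ^ 2 + z ^ 3 + z ^ 4 + z ^ 5), (z ^ 2 + z ^ 3 + z ^ 4 + z ^ 5), (z ^ 4); ((1 : K) + z + z ^ 2 + z ^ 3 + z ^ 5), ((1 : K) + z + z ^ 3 + z ^ 4 + z ^ 5), ((1 : K) + z + z ^ 2 + z ^ 3)] : Matrix (Fin 3) (Fin 3) K) * !![1, 0, 0; (z + z ^ 5), 1, 0; ((1 : K) + z + z ^ 2), -(z ^ 2 + z ^ 4 + z ^ 5), 1] = !![((1 : K) + z + z ^ 4 + z ^ 5), ((1 : K) + z + z ^ 4 + z ^ 5), (z + z ^ 5); (0 : K), (z ^ 4), (z ^ 4); ((1 : K) + z + z ^ 4 + z ^ 5), ((1 : K) + z + z ^ 4 + z ^ 5), ((1 : K) + z + z ^ 2 + z ^ 3)] := by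
    apply mul3_eq
    · linear_combination ((2 : K) + z) * hΦ + ((-1 : K) + z ^ 2 + (-1 : K) * z ^ 4 + z ^ 5) * h2
    · linear_combination ((-1 : K) * z ^ 3 + (-1 : K) * z ^ 4) * hΦ + ((-1 : K) * z ^ 5) * h2
    · ring
    · linear_combination ((1 : K) + z ^ 2 + z ^ 3 + z ^ 4) * hΦ + (z ^ 4 + z ^ 5) * h2
    · linear_combination ((-1 : K) * z ^ 2 + (-1 : K) * z ^ 3) * hΦ + (z ^ 2 + z ^ 3 + z ^ 5) * h2
    · ring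
    · linear_combination ((1 : K) + (-1 : K) * z + z ^ 2 + z ^ 3 + z ^ 4) * hΦ + (2 * z + 2 * z ^ 2 + z ^ 3 + z ^ 4 + z ^ 5) * h2
    · linear_combination ((-2 : K) + (-2 : K) * z + (-1 : K) * z ^ 2) * hΦ + ((1 : K) + z + z ^ 3 + (-1 : K) * z ^ 5) * h2
    · ring
  have hP5 : (!![((1 : K) + z + z ^ 4 + z ^ 5), ((1 : K) + z + z ^ 4 + z ^ 5), (z + z ^ 5); (0 : K), (z ^ 4), (z ^ 4); ((1 : K) + z + z ^ 4 + z ^ 5), ((1 : K) + z + z ^ 4 + z ^ 5), ((1 : K) + z + z ^ 2 + z ^ 3)] : Matrix (Fin 3) (Fin 3) K) * !![1, -1, (z ^ 3 + z ^ 4 + z ^ 5); 0, 1, 1; 0, 0, 1] = !![((1 : K) + z + z ^ 4 + z ^ 5), (0 : K), (0 : K); (0 : K), (z ^ 4), (0 : K); ((1 : K) + z + z ^ 4 + z ^ 5), (0 : K), ((1 : K) + z ^ 2 + z ^ 3 + z ^ 5)] := by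
    apply mul3_eq
    · ring
    · ring
    · linear_combination ((-1 : K) + 2 * z ^ 2 + 2 * z ^ 3 + z ^ 4) * hΦ + ((1 : K) + z + (-1 : K) * z ^ 2 + z ^ 4 + z ^ 5) * h2
    · ring
    · ring
    · linear_combination (z ^ 4) * h2
    · ring
    · ring
    · linear_combination ((-1 : K) + 2 * z ^ 2 + 2 * z ^ 3 + z ^ 4) * hΦ + ((1 : K) + z + (-1 : K) * z ^ 2 + z ^ 4) * h2
  have hmt : mt bar (uE bar hb 1 (z ^ 3 + z ^ 4 + z ^ 5) h * lE bar hb (z + z ^ 5) ((1 : K) + z + z ^ 2) h' * uE bar hb 1 (z ^ 3 + z ^ 4 + z ^ 5) h * lE bar hb (z + z ^ 5) ((1 : K) + z + z ^ 2) h' * lE bar hb (z + z ^ 5) ((1 : K) + z + z ^ 2) h' * uE bar hb 1 (z ^ 3 + z ^ 4 + z ^ 5) h) = !![((1 : K) + z + z ^ 4 + z ^ 5), (0 : K), (0 : K); (0 : K), (z ^ 4), (0 : K); ((1 : K) + z + z ^ 4 + z ^ 5), (0 : K), ((1 : K) + z ^ 2 + z ^ 3 + z ^ 5)] := by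
    simp only [mt_mul, mt_uE, mt_lE]
    rw [hU, hV, hP1, hP2, hP3, hP4, hP5]
  have hw00 : ((1 : K) + z + z ^ 4 + z ^ 5) ≠ 0 := by
    intro h0
    have h1 : ((1 : K) + z + z ^ 4 + z ^ 5) * (z + z ^ 3) = 1 := by
      linear_combination ((1 : K) + z + z ^ 2) * hΦ + ((-1 : K)) * h2
    rw [h0, zero_mul] at h1
    exact zero_ne_one h1
  have hr : mt bar (uE bar hb 1 (z ^ 3 + z ^ 4 + z ^ 5) h * lE bar hb (z + z ^ 5) ((1 : K) + z + z ^ 2) h' * uE bar hb 1 (z ^ 3 + z ^ 4 + z ^ 5) h * lE bar hb (z + z ^ 5) ((1 : K) + z + z ^ 2) h' * lE bar hb (z + z ^ 5) ((1 : K) + z + z ^ 2) h' * uE bar hb 1 (z ^ 3 + z ^ 4 + z ^ 5) h) 1 1 / mt bar (uE bar hb 1 (z ^ 3 + z ^ 4 + z ^ 5) h * lE bar hb (z + z ^ 5) ((1 : K) + z + z ^ 2) h' * uE bar hb 1 (z ^ 3 + z ^ 4 + z ^ 5) h * lE bar hb (z + z ^ 5) ((1 : K) + z + z ^ 2) h' * lE bar hb (z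 + z ^ 5) ((1 : K) + z + z ^ 2) h' * uE bar hb 1 (z ^ 3 + z ^ 4 + z ^ 5) h) 0 0 = (z + z ^ 4 + z ^ 5) := by
    rw [hmt]
    show (z ^ 4) / ((1 : K) + z + z ^ 4 + z ^ 5) = (z + z ^ 4 + z ^ 5)
    rw [div_eq_iff hw00]
    linear_combination (z + (-1 : K) * z ^ 2 + (-2 : K) * z ^ 3 + (-1 : K) * z ^ 4) * hΦ + ((-1 : K) * z + z ^ 3 + (-1 : K) * z ^ 5) * h2
  have hr0 : (z + z ^ 4 + z ^ 5) ≠ 0 := by
    intro h0
    have h1 : (z + z ^ 4 + z ^ 5) * (z + z ^ 3 + z ^ 5) = 1 := by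
      linear_combination ((1 : K) + z ^ 2 + z ^ 3 + z ^ 4) * hΦ + ((-1 : K) + (-1 : K) * z ^ 3) * h2
    rw [h0, zero_mul] at h1
    exact zero_ne_one h1
  have hu : uE bar hb 1 (z ^ 3 + z ^ 4 + z ^ 5) h ∈ Subgroup.closure ({uE bar hb 1 (z ^ 3 + z ^ 4 + z ^ 5) h, lE bar hb (z + z ^ 5) ((1 : K) + z + z ^ 2) h'} : Set (SUJ bar)) :=
    Subgroup.subset_closure (Set.mem_insert _ _)
  have hv : lE bar hb (z + z ^ 5) ((1 : K) + z + z ^ 2) h' ∈ Subgroup.closure ({uE bar hb 1 (z ^ 3 + z ^ 4 + z ^ 5) h, lE bar hb (z + z ^ 5) ((1 : K) + z + z ^ 2) h'} : Set (SUJ bar)) :=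
    Subgroup.subset_closure (Set.mem_insert_of_mem _ rfl)
  refine explicit_case bar hb hnm htr one_ne_zero h h' hl hcl (uE bar hb 1 (z ^ 3 + z ^ 4 + z ^ 5) h * lE bar hb (z + z ^ 5) ((1 : K) + z + z ^ 2) h' * uE bar hb 1 (z ^ 3 + z ^ 4 + z ^ 5) h * lE bar hb (z + z ^ 5) ((1 : K) + z + z ^ 2) h' * lE bar hb (z + z ^ 5) ((1 : K) + z + z ^ 2) h' * uE bar hb 1 (z ^ 3 + z ^ 4 + z ^ 5) h) (mul_mem (mul_mem (mul_mem (mul_mem (mul_mem hu hv) hu) hv) hv) hu) ?_ ?_ ?_ ?_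
  · rw [hmt]
    rfl
  · rw [hmt]
    rfl
  · rw [hmt]
    rfl
  intro L hL
  rw [hr] at hL
  refine Cfsg.Agent.Helper81.RU3.subfield_eq_top_of_pow_ne (z + z ^ 4 + z ^ 5) hr0 ?_ L hL
  intro s k hsk hk hpow
  have hs64 : s ^ k = 64 := by rw [← hsk, hK]; norm_num
  have hs1 : 2 ≤ s := by
    rcases Nat.lt_or_ge s 2 with h1 | h1
    · interval_cases s
      · rw [zero_pow (by omega)] at hs64; omega
      · rw [one_pow] at hs64; omega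
    · exact h1
  have hk6 : k ≤ 6 := by
    by_contra hcon
    push Not at hcon
    have : 2 ^ 7 ≤ s ^ k := calc 2 ^ 7 ≤ 2 ^ k := Nat.pow_le_pow_right (by norm_num) hcon
      _ ≤ s ^ k := Nat.pow_le_pow_left hs1 k
    omega
  have hs8 : s ≤ 8 := by
    by_contra hcon
    push Not at hcon
    have : 9 ^ 2 ≤ s ^ k := calc 9 ^ 2 ≤ 9 ^ k := Nat.pow_le_pow_right (by norm_num) hk
      _ ≤ s ^ k := Nat.pow_le_pow_left hcon k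
    omega
  have hT : (z + z ^ 4 + z ^ 5) ^ 3 = ((1 : K) + z + z ^ 2 + z ^ 5) := by
    linear_combination ((1 : K) + (-3 : K) * z + (-3 : K) * z ^ 2 + 2 * z ^ 3 + 3 * z ^ 4 + 3 * z ^ 7 + 3 * z ^ 8 + z ^ 9) * hΦ + ((-1 : K) + z + z ^ 2 + (-1 : K) * z ^ 3 + z ^ 5) * h2
  have hTrel : ((1 : K) + z + z ^ 2 + z ^ 5) ^ 3 + ((1 : K) + z + z ^ 2 + z ^ 5) ^ 2 + 1 = 0 := by
    linear_combination ((7 : K) + 7 * z + 3 * z ^ 2 + 4 * z ^ 4 + 3 * z ^ 5 + 2 * z ^ 6 + z ^ 9) * hΦ + ((-2 : K) + (-1 : K) * z + 3 * z ^ 2 + z ^ 3 + (-2 : K) * z ^ 4 + z ^ 5) * h2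
  have hS : (z + z ^ 4 + z ^ 5) ^ 7 = ((1 : K) + z ^ 3) := by
    linear_combination ((21 : K) + 42 * z + (-6 : K) * z ^ 2 + (-42 : K) * z ^ 3 + (-6 : K) * z ^ 4 + 42 * z ^ 5 + 21 * z ^ 6 + (-35 : K) * z ^ 7 + (-36 : K) * z ^ 8 + 21 * z ^ 9 + 48 * z ^ 10 + z ^ 11 + (-42 : K) * z ^ 12 + 8 * z ^ 13 + 77 * z ^ 14 + 42 * z ^ 15 + (-21 : K) * z ^ 16 + 27 * z ^ 17 + 105 * z ^ 18 + 83 * z ^ 19 + 36 * z ^ 20 + 63 * z ^ 21 + 99 * z ^ 22 + 77 * z ^ 23 + 42 * z ^ 24 + 35 * z ^ 25 + 34 * z ^ 26 + 21 * z ^ 27 + 7 * z ^ 28 + z ^ 29) * hΦ + ((-11 : K) + (-21 : K) * z + 3 * z ^ 2 + 10 * z ^ 3 + (-18 : K) * z ^ 4 + (-18 : K) * z ^ 5) * h2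
  have hSrel : ((1 : K) + z ^ 3) ^ 2 + ((1 : K) + z ^ 3) + 1 = 0 := by
    linear_combination ((1 : K)) * hΦ + ((1 : K) + z ^ 3) * h2
  have hs : s = 2 ∨ s = 4 ∨ s = 8 := by
    interval_cases k <;> interval_cases s <;> omega
  rcases hs with rfl | rfl | rfl
  · rw [show 2 - 1 = 1 from rfl, pow_one] at hpow
    have h3 : (z + z ^ 4 + z ^ 5) ^ 3 = 1 := by rw [hpow, one_pow]
    rw [hT] at h3
    have h1 : (1 : K) = 0 := by linear_combination hTrel - (((1 : K) + z + z ^ 2 + z ^ 5) ^ 2 + 2 * ((1 : K) + z + z ^ 2 + z ^ 5) + 2) * h3 - h2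
    exact one_ne_zero h1
  · rw [show 4 - 1 = 3 from rfl, hT] at hpow
    have h1 : (1 : K) = 0 := by linear_combination hTrel - (((1 : K) + z + z ^ 2 + z ^ 5) ^ 2 + 2 * ((1 : K) + z + z ^ 2 + z ^ 5) + 2) * hpow - h2
    exact one_ne_zero h1
  · rw [show 8 - 1 = 7 from rfl, hS] at hpow
    have h1 : (1 : K) = 0 := by linear_combination hSrel - (((1 : K) + z ^ 3) + 2) * hpow - h2
    exact one_ne_zero h1

end Cfsg.Agent.Helper84.RU3
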