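-- helper84: S2283 (SU_3(q), q ≥ 3, is generated by two conjugate regular unipotent elements): assembly.
-- In the hyperbolic model: u = uE 1 b, v = the lower unipotent element with u v u lower triangular; the torus
-- part of u v u has norm one and multiplier z³ (z = bar b / b of order q + 1), which lies in no proper subfield
-- unless q ∈ {5, 8}; these two cases use explicit words (C5, C8).
import Mathlib
import Cfsg.Prelude.Def_Classical
import Cfsg.Agent.Helper84.RU3.Expl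
import Cfsg.Agent.Helper84.RU3.C5
import Cfsg.Agent.Helper84.RU3.C8
import Cfsg.Agent.Helper81.RU3NTZ
import Cfsg.Agent.Helper86.RU3TR
import Cfsg.Agent.Helper45.GUCard
import Cfsg.Agent.Helper13.UGen1

set_option autoImplicit false

namespace Cfsg.Agent.Helper84.RU3

open Matrix

variable {K : Type*} [Field K] [Fintype K]

/-- the generic case in the model -/
theorem case_generic {q : ℕ} (hq3 : 3 ≤ q) (hq5 : q ≠ 5) (hq8 : q ≠ 8) (hK : Fintype.card K = q ^ 2)
    (bar : K →+* K) (hq : ∀ x, bar x = x ^ q) (hb : ∀ x, bar (bar x) = x)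
    (hnm : ∀ y : K, bar y = y → ∃ t, t * bar t = y) (htr : ∀ y : K, bar y = y → ∃ t, t + bar t = y) :
    ∃ u g : SUJ bar, ((mt bar u - 1) ^ 3 = 0 ∧ (mt bar u - 1) ^ 2 ≠ 0) ∧
      Subgroup.closure ({u, g * u * g⁻¹} : Set (SUJ bar)) = ⊤ := by
  obtain ⟨z, hzo, hzn⟩ := Cfsg.Agent.Helper81.RU3.exists_norm_one (K := K) (q := q) (by omega) hK
  have hz0 : z ≠ 0 := by
    intro h
    rw [h, zero_mul] at hzn
    exact zero_ne_one hzn
  have hbz : bar z = z⁻¹ := by
    rw [hq]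
    exact eq_inv_of_mul_eq_one_right hzn
  have hz1 : 1 + z ≠ 0 := by
    intro h
    have h1 : z = -1 := by linear_combination h
    have h2 : z ^ 2 = 1 := by rw [h1]; ring
    have h3 := orderOf_dvd_of_pow_eq_one h2
    rw [hzo] at h3
    have := Nat.le_of_dvd (by norm_num) h3
    omega
  have hz1' : z + 1 ≠ 0 := by rwa [add_comm]
  obtain ⟨b, hbdef⟩ : ∃ b : K, b = -1 / (1 + z) := ⟨_, rfl⟩
  have hbb : bar b = -z / (1 + z) := by
    rw [hbdef, map_div₀, map_neg, map_one, map_add, map_one, hbz]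
    field_simp
    ring
  have hb0 : b ≠ 0 := by
    rw [hbdef]
    exact div_ne_zero (by norm_num) hz1
  have hbb0 : bar b ≠ 0 := (map_ne_zero bar).mpr hb0
  have h : b + bar b + (1 : K) * bar 1 = 0 := by
    rw [hbb, hbdef, map_one]
    field_simp
    ring
  have hratio : bar b / b = z := by
    rw [hbb, hbdef]
    field_simp
  obtain ⟨c, d, h', hc, hm01, hm02, hm12, hmρ⟩ :=
    Cfsg.Agent.Helper91.RU3.pattern11 bar hb (a := (1 : K)) (b := b) one_ne_zero h
  have hc' : c = 1 / (b * bar b) := by rw [hc, map_one]; ring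
  obtain ⟨l, hldef⟩ : ∃ l : K, l = -(b * bar b) := ⟨_, rfl⟩
  have hl0 : l ≠ 0 := by
    rw [hldef]
    exact neg_ne_zero.mpr (mul_ne_zero hb0 hbb0)
  have hbl : bar l = l := by
    rw [hldef, map_neg, map_mul, hb, mul_comm]
  have hcl : c = -((1 : K) * bar l / l ^ 2) := by
    rw [hbl, hc', hldef]
    field_simp
  have hu : uE bar hb 1 b h ∈ Subgroup.closure ({uE bar hb 1 b h, lE bar hb c d h'} : Set (SUJ bar)) :=
    Subgroup.subset_closure (Set.mem_insert _ _)
  have hv : lE bar hb c d h' ∈ Subgroup.closure ({uE bar hb 1 b h, lE bar hb c d h'} : Set (SUJ bar)) :=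
    Subgroup.subset_closure (Set.mem_insert_of_mem _ rfl)
  refine explicit_case bar hb hnm htr one_ne_zero h h' hl0 hcl
    (uE bar hb 1 b h * lE bar hb c d h' * uE bar hb 1 b h) (mul_mem (mul_mem hu hv) hu) hm01 hm02 hm12 ?_
  rw [hmρ, hratio]
  refine Cfsg.Agent.Helper81.RU3.subfield_eq_top_of_pow_ne (z ^ 3) (pow_ne_zero _ hz0) ?_
  intro s k hsk hk hpow
  rw [← pow_mul] at hpow
  have h1 := orderOf_dvd_of_pow_eq_one hpow
  rw [hzo] at h1
  exact Cfsg.Agent.Helper81.RU3.nt_aux hq3 hq5 hq8 (hK ▸ hsk) hk h1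

/-- the statement in the model -/
theorem model_main {q : ℕ} (hq3 : 3 ≤ q) (hK : Fintype.card K = q ^ 2)
    (bar : K →+* K) (hq : ∀ x, bar x = x ^ q) :
    ∃ u g : SUJ bar, ((mt bar u - 1) ^ 3 = 0 ∧ (mt bar u - 1) ^ 2 ≠ 0) ∧
      Subgroup.closure ({u, g * u * g⁻¹} : Set (SUJ bar)) = ⊤ := by
  have hb : ∀ x, bar (bar x) = x := by
    intro x
    rw [hq, hq]
    exact Cfsg.Agent.Helper13.frob_frob hK x
  have htr : ∀ y : K, bar y = y → ∃ t, t + bar t = y := by
    intro y hy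
    obtain ⟨t, ht⟩ := Cfsg.Agent.Helper13.exists_trace_eq_of_fixed hK (a := y) (by rw [← hq]; exact hy)
    exact ⟨t, by rw [hq]; exact ht⟩
  have hnm : ∀ y : K, bar y = y → ∃ t, t * bar t = y := by
    intro y hy
    obtain ⟨t, ht⟩ := Cfsg.Agent.Helper13.exists_norm_eq_of_fixed hK (a := y) (by rw [← hq]; exact hy)
    exact ⟨t, by rw [hq]; exact ht⟩
  by_cases h5 : q = 5
  · subst h5
    exact case_five hK bar hq hb hnm htr
  by_cases h8 : q = 8
  · subst h8
    exact case_eight hK bar hq hb hnm htr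
  exact case_generic hq3 h5 h8 hK bar hq hb hnm htr

/-- S2283 -/
theorem main {F : Type*} [Field F] [Fintype F] (q : ℕ) (hq : 3 ≤ q) (hF : Fintype.card F = q ^ 2) :
    ∃ u g : ↥(Cfsg.SU 3 F q), (IsNilpotent (((u : Matrix.SpecialLinearGroup (Fin 3) F) : Matrix (Fin 3) (Fin 3) F) - 1) ∧ (((u : Matrix.SpecialLinearGroup (Fin 3) F) : Matrix (Fin 3) (Fin 3) F) - 1) ^ (3 - 1) ≠ 0) ∧
      Subgroup.closure ({u, g * u * g⁻¹} : Set ↥(Cfsg.SU 3 F q)) = ⊤ := by
  obtain ⟨bar, hbar⟩ := Cfsg.Agent.Helper45.GU.exists_bar hF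
  obtain ⟨u₀, g₀, ⟨hn3, hn2⟩, hcl⟩ := model_main hq hF bar hbar
  obtain ⟨φ, P, P', hPP', hP'P, hφ⟩ := Cfsg.Agent.Helper86.RU3.exists_transfer hF bar hbar
  have hconj : ∀ (X : Matrix (Fin 3) (Fin 3) F) (n : ℕ), (P * X * P') ^ n = P * X ^ n * P' := by
    intro X n
    induction n with
    | zero => rw [pow_zero, pow_zero, Matrix.mul_one, hPP']
    | succ n ih =>
      rw [pow_succ, ih, pow_succ]
      calc P * X ^ n * P' * (P * X * P') = P * X ^ n * (P' * P) * X * P' := by simp only [Matrix.mul_assoc]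
        _ = P * (X ^ n * X) * P' := by rw [hP'P, Matrix.mul_one]; simp only [Matrix.mul_assoc]
  have hsub : (((φ u₀ : Matrix.SpecialLinearGroup (Fin 3) F) : Matrix (Fin 3) (Fin 3) F) - 1) =
      P * (mt bar u₀ - 1) * P' := by
    rw [hφ, Matrix.mul_sub, Matrix.sub_mul, Matrix.mul_one, hPP']
  refine ⟨φ u₀, φ g₀, ⟨?_, ?_⟩, ?_⟩
  · refine ⟨3, ?_⟩
    rw [hsub, hconj, hn3, Matrix.mul_zero, Matrix.zero_mul]
  · rw [hsub, hconj]
    intro h0
    apply hn2
    have : (mt bar u₀ - 1) ^ 2 = P' * (P * (mt bar u₀ - 1) ^ 2 * P') * P := by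
      calc (mt bar u₀ - 1) ^ 2 = (P' * P) * (mt bar u₀ - 1) ^ 2 * (P' * P) := by
            rw [hP'P, Matrix.one_mul, Matrix.mul_one]
        _ = P' * (P * (mt bar u₀ - 1) ^ 2 * P') * P := by simp only [Matrix.mul_assoc]
    rw [this]
    have h0' : P * (mt bar u₀ - 1) ^ 2 * P' = 0 := h0
    rw [h0', Matrix.mul_zero, Matrix.zero_mul]
  · have h1 : ({φ u₀, φ g₀ * φ u₀ * (φ g₀)⁻¹} : Set ↥(Cfsg.SU 3 F q)) =
        φ.toMonoidHom '' ({u₀, g₀ * u₀ * g₀⁻¹} : Set (SUJ bar)) := by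
      rw [Set.image_pair]
      simp
    rw [h1, ← MonoidHom.map_closure, hcl]
    rw [← MonoidHom.range_eq_map]
    exact MonoidHom.range_eq_top.mpr φ.surjective

end Cfsg.Agent.Helper84.RU3
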